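import Cfsg.Agent.H906.L34.Alt
import Cfsg.Agent.H437.L34.Carrier

/-!
# S5917 (`L₃(4)`): the restricted square on the form over `F₂`; reduction to `[2] = 0` (helper906)
-/

set_option autoImplicit false
set_option linter.unusedSectionVars false
set_option maxRecDepth 100000

namespace Cfsg.Agent.H906.L34

open Matrix Cfsg Cfsg.Lie Cfsg.Lie.ChevalleyDatum
open Cfsg.Agent.H691.L34
open Cfsg.Agent.H939.L64
open Cfsg.Agent.H437.L34
open Cfsg.Agent.H201.L34 (sq br_sq sq_add fr_sq aK_sq sq_zero)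

theorem fr_up (v : L2) : fr (up v) = up v := by
  funext i
  show (algebraMap (ZMod 2) KK (v i)) ^ 2 = algebraMap (ZMod 2) KK (v i)
  rw [← map_pow]
  congr 1
  exact (by decide : ∀ a : ZMod 2, a ^ 2 = a) _

theorem exists_up {x : LK} (h : fr x = x) : ∃ v : L2, up v = x := by
  classical
  refine ⟨fun i => if x i = 0 then 0 else 1, ?_⟩
  funext i
  have e : x i ^ 2 = x i := congrFun h i
  show algebraMap (ZMod 2) KK (if x i = 0 then 0 else 1) = x i
  by_cases h0 : x i = 0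
  · rw [if_pos h0, map_zero, h0]
  · rw [if_neg h0, map_one]
    have e2 : x i * x i = x i * 1 := by rw [mul_one, ← pow_two, e]
    exact (mul_left_cancel₀ h0 e2).symm

/-- the restricted square on the form over `F₂` -/
noncomputable def sq2 (v : L2) : L2 := (exists_up (x := H201.L34.sq (up v)) (by rw [fr_sq, fr_up])).choose

theorem up_sq2 (v : L2) : up (sq2 v) = H201.L34.sq (up v) :=
  (exists_up (x := H201.L34.sq (up v)) (by rw [fr_sq, fr_up])).choose_spec

theorem sq2_add (x y : L2) : sq2 (x + y) = sq2 x + sq2 y + be x y := by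
  apply up_injective
  rw [up_sq2, up_add, sq_add, up_add, up_add, up_sq2, up_sq2, up_be]

theorem sq2_br (x y : L2) : be (sq2 x) y = be x (be x y) := by
  apply up_injective
  rw [up_be, up_sq2, br_sq, up_be, up_be]

theorem sq2_zero : sq2 0 = 0 := by
  apply up_injective
  rw [up_sq2, up_zero, sq_zero]

theorem a2_sq2 (g : E2) (x : L2) : a2 g (sq2 x) = sq2 (a2 g x) := by
  apply up_injective
  rw [← Cfsg.Agent.H436.L34.aK_em_up, up_sq2, aK_sq, Cfsg.Agent.H436.L34.aK_em_up, up_sq2]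

theorem up_sq2_iter (k : ℕ) (v : L2) : up (sq2^[k] v) = (H201.L34.sq)^[k] (up v) := by
  induction k with
  | zero => rfl
  | succ k ih => rw [Function.iterate_succ_apply', Function.iterate_succ_apply', up_sq2, ih]

section

variable {F : Type} [Field F]

theorem rho_sq2 (f : ProjectiveSpecialLinearGroup (Fin 3) F →* E2) (g : G3 F) (x : L2) :
    rho f g (sq2 x) = sq2 (rho f g x) := a2_sq2 _ _

variable [Fintype F]

/-- **the reduction**: an abelian module of type 9 with `[2]` nilpotent gives an abelian module of type 9 with `[2] = 0` -/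
theorem nil_reduction (hF : Fintype.card F = 4) (f : ProjectiveSpecialLinearGroup (Fin 3) F →* E2) {b : Bool}
    {W : Submodule (ZMod 2) L2} (hW : IsNine (rho f) b W) (hab : ∀ x ∈ W, ∀ y ∈ W, br2 x y = 0)
    (hnil : ∀ x ∈ W, ∃ k, (H201.L34.sq)^[k] (up x) = 0) :
    ∃ W' : Submodule (ZMod 2) L2, IsNine (rho f) b W' ∧ (∀ x ∈ W', ∀ y ∈ W', br2 x y = 0) ∧
      ∀ x ∈ W', H201.L34.sq (up x) = 0 := by
  obtain ⟨φ, h1, h2, h3, h4⟩ := hW
  have hm : ∀ X, HF X → φ X ∈ W := fun X hX => (h3 _).2 ⟨X, hX, rfl⟩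
  have h : Hom9 (rho f) b φ := ⟨h1, h4⟩
  have hab' : ∀ X Y, HF X → HF Y → be (φ X) (φ Y) = 0 := fun X Y hX hY => hab _ (hm X hX) _ (hm Y hY)
  rcases alternative hF (β := be) br2_self sq2_add (rho_sq2 f) sq2_br h h2 hab' with
    ⟨i, e1, e2, e3, e4⟩ | ⟨i, k, hk, e1, e2, _, e4⟩
  · refine ⟨e1.im (two_of_card hF), e1.isNine _ e2, ?_, ?_⟩
    · rintro _ ⟨X, hX, rfl⟩ _ ⟨Y, hY, rfl⟩
      exact e3 X Y hX hY
    · rintro _ ⟨X, hX, rfl⟩
      have e := e4 X hX
      rw [← up_sq2, e, up_zero]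
  · exfalso
    obtain ⟨m, hm'⟩ := hnil (φ 1) (hm 1 HF_one)
    rw [← up_sq2_iter, ← up_zero] at hm'
    have e5 : sq2^[m] (φ 1) = 0 := up_injective hm'
    have e6 : ∀ n, sq2^[n + m] (φ 1) = 0 := fun n => by
      induction n with
      | zero => rw [zero_add]; exact e5
      | succ n ih => rw [Nat.add_right_comm, Function.iterate_succ_apply', ih, sq2_zero]
    have e7 : ∀ j, sq2^[k * j] (sq2^[i] (φ 1)) = sq2^[i] (φ 1) := fun j => by
      induction j with
      | zero => rfl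
      | succ j ih => rw [Nat.mul_succ, Function.iterate_add_apply, e4 1 HF_one, ih]
    have e8 : sq2^[i] (φ 1) = 0 := by
      rw [← e7 m, ← Function.iterate_add_apply]
      have hle : m ≤ k * m + i := le_trans (Nat.le_mul_of_pos_left m hk) (Nat.le_add_right _ _)
      have := e6 (k * m + i - m)
      rwa [Nat.sub_add_cancel hle] at this
    have e9 := e2 1 HF_one e8
    exact one_ne_zero (α := F) (congrFun (congrFun e9 0) 0)

/-- the case `(B')` for the Lie algebra -/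
theorem dead_B2 (hF : Fintype.card F = 4) (f : ProjectiveSpecialLinearGroup (Fin 3) F →* E2) {s : Bool}
    {φ ψ : M3 F → L2} (hφ : Hom9 (rho f) s φ) (hψ : Hom9 (rho f) (!s) ψ)
    (hφ0 : ∀ X, HF X → φ X = 0 → X = 0) (hψ0 : ∀ X, HF X → ψ X = 0 → X = 0)
    (hn : sq2 (φ 1) = φ 1 ∨ sq2 (φ 1) = ψ 1 ∨ sq2 (φ 1) = φ 1 + ψ 1)
    (hm : sq2 (ψ 1) = φ 1 ∨ sq2 (ψ 1) = ψ 1 ∨ sq2 (ψ 1) = φ 1 + ψ 1) (hnm : sq2 (φ 1) ≠ sq2 (ψ 1))
    (hev : ¬ (sq2 (φ 1) = ψ 1 ∧ sq2 (ψ 1) = φ 1)) (hne : ∃ X Y, HF X ∧ HF Y ∧ be (φ X) (φ Y) ≠ 0) : False := by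
  have hi := (brk_rho f).inv
  have ha := (brk_rho f).alt
  exact dead_B hF be ha hi sq2_add (rho_sq2 f) sq2_br hφ.add hψ.add hφ.eqv hψ.eqv hφ0 hψ0 hn hm hnm hev hne

end

end Cfsg.Agent.H906.L34
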