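import Cfsg.Agent.H906.L34.Mixed
import Cfsg.Agent.H360.L34.Nine

/-!
# S5917 (`L₃(4)`): the alternative for an abelian submodule of type 9 (helper906)

`[2]` is nilpotent or invertible on an abelian submodule `N` of type 9: one of the modules `N`, `N^[2]`, `N^[4]`, ... is of
type 9 and has `[2] = 0`, or is fixed by a power of `[2]`.
-/

set_option autoImplicit false
set_option linter.unusedSectionVars false

namespace Cfsg.Agent.H906.L34

open Matrix Cfsg.Agent.H691.L34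
open Cfsg.Agent.H204.L34 (hact_mul hact_one hact_HF ct_mul ct_one)

section Alt

variable {F : Type} [Field F] {V : Type} [AddCommGroup V] [Module (ZMod 2) V]

/-- `φ` is an additive, equivariant map on the hermitian matrices, of type `s` -/
structure Hom9 (ρ : Representation (ZMod 2) (G3 F) V) (s : Bool) (φ : M3 F → V) : Prop where
  add : ∀ X Y, HF X → HF Y → φ (X + Y) = φ X + φ Y
  eqv : ∀ (g : G3 F) (X : M3 F), HF X → ρ g (φ X) = φ (hact (tw s g) X)

variable {ρ : Representation (ZMod 2) (G3 F) V} {s : Bool} {φ χ : M3 F → V}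

theorem Hom9.zero (h : Hom9 ρ s φ) : φ 0 = 0 := by
  have e := h.add 0 0 HF_zero HF_zero
  rw [add_zero] at e
  exact left_eq_add.1 e

/-- the image -/
def Hom9.im (h : Hom9 ρ s φ) (h2 : (2 : F) = 0) : Submodule (ZMod 2) V where
  carrier := {v | ∃ X, HF X ∧ φ X = v}
  add_mem' := by
    rintro _ _ ⟨X, hX, rfl⟩ ⟨Y, hY, rfl⟩
    exact ⟨X + Y, HF_add h2 hX hY, h.add X Y hX hY⟩
  zero_mem' := ⟨0, HF_zero, h.zero⟩
  smul_mem' := by
    rintro c _ ⟨X, hX, rfl⟩
    have hc : ∀ c : ZMod 2, c = 0 ∨ c = 1 := by decide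
    rcases hc c with rfl | rfl
    · exact ⟨0, HF_zero, by rw [h.zero, zero_smul]⟩
    · exact ⟨X, hX, (one_smul _ _).symm⟩

theorem Hom9.isNine (h : Hom9 ρ s φ) (h2 : (2 : F) = 0) (h0 : ∀ X, HF X → φ X = 0 → X = 0) : IsNine ρ s (h.im h2) :=
  ⟨φ, h.add, h0, fun _ => Iff.rfl, h.eqv⟩

variable [Fintype F]

/-- **Schur**: an equivariant additive map is injective or zero -/
theorem Hom9.inj_or (hF : Fintype.card F = 4) [Finite V] (h : Hom9 ρ s φ) (h0 : ∀ X, HF X → φ X = 0 → X = 0)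
    (hχ : Hom9 ρ s χ) : (∀ X, HF X → χ X = 0 → X = 0) ∨ ∀ X, HF X → χ X = 0 := by
  have h2 := two_of_card hF
  have h4 := four_of_card hF
  have : Module.Finite (ZMod 2) V := Module.Finite.of_finite
  have hS := H360.L34.nine_simp hF (h.isNine h2 h0)
  let K : Submodule (ZMod 2) V :=
    { carrier := {v | ∃ X, HF X ∧ φ X = v ∧ χ X = 0}
      add_mem' := by
        rintro _ _ ⟨X, hX, rfl, eX⟩ ⟨Y, hY, rfl, eY⟩
        exact ⟨X + Y, HF_add h2 hX hY, h.add X Y hX hY, by rw [hχ.add X Y hX hY, eX, eY, add_zero]⟩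
      zero_mem' := ⟨0, HF_zero, h.zero, hχ.zero⟩
      smul_mem' := by
        rintro c _ ⟨X, hX, rfl, eX⟩
        have hc : ∀ c : ZMod 2, c = 0 ∨ c = 1 := by decide
        rcases hc c with rfl | rfl
        · exact ⟨0, HF_zero, by rw [h.zero, zero_smul], hχ.zero⟩
        · exact ⟨X, hX, (one_smul _ _).symm, eX⟩ }
  have hK : Inv ρ K := by
    rintro g _ ⟨X, hX, rfl, eX⟩
    exact ⟨_, hact_HF h2 h4 hX _, (h.eqv g X hX).symm, by rw [← hχ.eqv g X hX, eX, map_zero]⟩
  have hle : K ≤ h.im h2 := by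
    rintro _ ⟨X, hX, rfl, _⟩
    exact ⟨X, hX, rfl⟩
  rcases hS.2.2 K hK hle with e | e
  · left
    intro X hX eX
    have h3 : φ X ∈ K := ⟨X, hX, rfl, eX⟩
    rw [e, Submodule.mem_bot] at h3
    exact h0 X hX h3
  · right
    intro X hX
    have h3 : φ X ∈ K := by
      rw [e]
      exact ⟨X, hX, rfl⟩
    obtain ⟨Y, hY, e1, e2⟩ := h3
    have e3 : φ (X + Y) = 0 := by rw [h.add X Y hX hY, e1, two_zero]
    have e4 := h0 _ (HF_add h2 hX hY) e3
    have e5 : χ (X + Y) = 0 := by rw [e4]; exact hχ.zero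
    rw [hχ.add X Y hX hY, e2, add_zero] at e5
    exact e5

/-- the iterates of `[2]` commute -/
theorem sq_comm {β : V →ₗ[ZMod 2] V →ₗ[ZMod 2] V} (halt : ∀ x, β x x = 0) {sq : V → V}
    (hsb : ∀ x y, β (sq x) y = β x (β x y)) {x y : V} (h : β x y = 0) (i j : ℕ) :
    β (sq^[i] x) (sq^[j] y) = 0 := by
  have swap : ∀ x y, β x y = β y x := by
    intro x y
    have h := halt (x + y)
    simp only [map_add, LinearMap.add_apply, halt, zero_add, add_zero] at h
    exact (add_right_cancel (h.trans (two_zero (β x y)).symm)).symm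
  have h1 : ∀ i (x y : V), β x y = 0 → β (sq^[i] x) y = 0 := by
    intro i
    induction i with
    | zero => intro x y h; exact h
    | succ i ih =>
      intro x y h
      rw [Function.iterate_succ_apply']
      rw [hsb, ih x y h, map_zero]
  refine h1 i x _ ?_
  rw [swap]
  exact h1 j y x (by rw [swap]; exact h)

/-- the iterates of `[2]` on an abelian module of type 9 -/
theorem Hom9.iter {β : V →ₗ[ZMod 2] V →ₗ[ZMod 2] V} (halt : ∀ x, β x x = 0) {sq : V → V}
    (hadd : ∀ x y, sq (x + y) = sq x + sq y + β x y) (hsi : ∀ g x, ρ g (sq x) = sq (ρ g x))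
    (hsb : ∀ x y, β (sq x) y = β x (β x y)) (h : Hom9 ρ s φ) (hab : ∀ X Y, HF X → HF Y → β (φ X) (φ Y) = 0) (i : ℕ) :
    Hom9 ρ s (fun X => sq^[i] (φ X)) := by
  induction i with
  | zero => exact h
  | succ i ih =>
    refine ⟨fun X Y hX hY => ?_, fun g X hX => ?_⟩
    · show sq^[i + 1] (φ (X + Y)) = sq^[i + 1] (φ X) + sq^[i + 1] (φ Y)
      have e : sq^[i] (φ (X + Y)) = sq^[i] (φ X) + sq^[i] (φ Y) := ih.add X Y hX hY
      rw [Function.iterate_succ_apply', Function.iterate_succ_apply', Function.iterate_succ_apply', e, hadd,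
        sq_comm halt hsb (hab X Y hX hY), add_zero]
    · show ρ g (sq^[i + 1] (φ X)) = sq^[i + 1] (φ (hact (tw s g) X))
      have e : ρ g (sq^[i] (φ X)) = sq^[i] (φ (hact (tw s g) X)) := ih.eqv g X hX
      rw [Function.iterate_succ_apply', Function.iterate_succ_apply', hsi, e]

/-- **the alternative**: (A) an iterate is injective and killed by `[2]`, or (B) an iterate is injective and fixed by a
power of `[2]` -/
theorem alternative (hF : Fintype.card F = 4) [Finite V] {β : V →ₗ[ZMod 2] V →ₗ[ZMod 2] V} (halt : ∀ x, β x x = 0)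
    {sq : V → V} (hadd : ∀ x y, sq (x + y) = sq x + sq y + β x y) (hsi : ∀ g x, ρ g (sq x) = sq (ρ g x))
    (hsb : ∀ x y, β (sq x) y = β x (β x y)) (h : Hom9 ρ s φ) (h0 : ∀ X, HF X → φ X = 0 → X = 0)
    (hab : ∀ X Y, HF X → HF Y → β (φ X) (φ Y) = 0) :
    (∃ i, Hom9 ρ s (fun X => sq^[i] (φ X)) ∧ (∀ X, HF X → sq^[i] (φ X) = 0 → X = 0) ∧
      (∀ X Y, HF X → HF Y → β (sq^[i] (φ X)) (sq^[i] (φ Y)) = 0) ∧ ∀ X, HF X → sq (sq^[i] (φ X)) = 0) ∨
    ∃ i k, 0 < k ∧ Hom9 ρ s (fun X => sq^[i] (φ X)) ∧ (∀ X, HF X → sq^[i] (φ X) = 0 → X = 0) ∧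
      (∀ X Y (a b : ℕ), HF X → HF Y → β (sq^[a] (φ X)) (sq^[b] (φ Y)) = 0) ∧
      ∀ X, HF X → sq^[k] (sq^[i] (φ X)) = sq^[i] (φ X) := by
  classical
  have hit := h.iter halt hadd hsi hsb hab
  have hcm : ∀ X Y (a b : ℕ), HF X → HF Y → β (sq^[a] (φ X)) (sq^[b] (φ Y)) = 0 := fun X Y a b hX hY =>
    sq_comm halt hsb (hab X Y hX hY) a b
  by_cases hz : ∃ k, ∀ X, HF X → sq^[k] (φ X) = 0
  · left
    have hk := Nat.find_spec hz
    have hk0 : Nat.find hz ≠ 0 := by
      intro e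
      rw [e] at hk
      have h1 := h0 1 HF_one (hk 1 HF_one)
      exact one_ne_zero (α := F) (congrFun (congrFun h1 0) 0)
    obtain ⟨i, hi⟩ := Nat.exists_eq_succ_of_ne_zero hk0
    have hmin : ¬ ∀ X, HF X → sq^[i] (φ X) = 0 := Nat.find_min hz (by omega)
    refine ⟨i, hit i, ?_, fun X Y hX hY => hcm X Y i i hX hY, fun X hX => ?_⟩
    · exact ((h.inj_or hF h0 (hit i)).resolve_right hmin)
    · have := hk X hX
      rw [hi, Function.iterate_succ_apply'] at this
      exact this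
  · right
    push Not at hz
    have hinj : ∀ i X, HF X → sq^[i] (φ X) = 0 → X = 0 := fun i =>
      (h.inj_or hF h0 (hit i)).resolve_right fun hc => by
        obtain ⟨X, hX, hne⟩ := hz i
        exact hne (hc X hX)
    obtain ⟨i, j, hij, e⟩ := Finite.exists_ne_map_eq_of_infinite
      (fun n : ℕ => fun X : {X : M3 F // HF X} => sq^[n] (φ X.1))
    have key : ∀ i j : ℕ, i < j → ((fun X : {X : M3 F // HF X} => sq^[i] (φ X.1)) = fun X => sq^[j] (φ X.1)) →
        ∃ i k, 0 < k ∧ Hom9 ρ s (fun X => sq^[i] (φ X)) ∧ (∀ X, HF X → sq^[i] (φ X) = 0 → X = 0) ∧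
        (∀ X Y (a b : ℕ), HF X → HF Y → β (sq^[a] (φ X)) (sq^[b] (φ Y)) = 0) ∧
        ∀ X, HF X → sq^[k] (sq^[i] (φ X)) = sq^[i] (φ X) := by
      intro i j hlt he
      refine ⟨i, j - i, by omega, hit i, hinj i, hcm, fun X hX => ?_⟩
      rw [← Function.iterate_add_apply, Nat.sub_add_cancel hlt.le]
      exact (congrFun he ⟨X, hX⟩).symm
    rcases lt_or_gt_of_ne hij with hlt | hlt
    · exact key i j hlt e
    · exact key j i hlt e.symm

end Alt

end Cfsg.Agent.H906.L34
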