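import Cfsg.Agent.H906.L34.Quad

/-!
# S5917 (`L₃(4)`), type (D): the mixed case (helper906)

`φ`, `ψ` : the module of hermitian `3 × 3` matrices over `F₄` and its dual in a restricted Lie algebra over `F₂`, `n = φ 1`,
`m = ψ 1`. Then `n^[2] = n + m` is impossible. (No module theory: only the seven nonzero elements of a field of eight
symmetric matrices are used.)
-/

set_option autoImplicit false
set_option linter.unusedSectionVars false

namespace Cfsg.Agent.H906.L34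

open Matrix Cfsg.Agent.H691.L34
open Cfsg.Agent.H204.L34 (hact_mul hact_one hact_HF ct_mul ct_one D canon HF_apply)

section Eight

variable {F : Type} [Field F]

/-- the field with eight elements -/
def e1 : M3 F := !![0, 0, 1; 0, 1, 1; 1, 1, 1]
def e2 : M3 F := !![1, 1, 1; 1, 0, 0; 1, 0, 1]
def e3 : M3 F := !![1, 0, 1; 0, 0, 1; 1, 1, 0]
def e4 : M3 F := !![1, 1, 0; 1, 1, 1; 0, 1, 0]
def e5 : M3 F := !![0, 1, 0; 1, 0, 1; 0, 1, 1]
def e6 : M3 F := !![0, 1, 1; 1, 1, 0; 1, 0, 0]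

/-- a hermitian matrix, with its inverse, both symmetric -/
structure Pr (X Y : M3 F) : Prop where
  hX : HF X
  hd : X.det = 1
  mul : X * Y = 1
  sym : Y.transpose = Y

theorem pr1 (h2 : (2 : F) = 0) : Pr (e1 : M3 F) e6 where
  hX := by ext i j; fin_cases i <;> fin_cases j <;> simp [e1, ct]
  hd := by simp [e1, Matrix.det_fin_three]; linear_combination (-1) * h2
  mul := by
    have o2 : (1 : F) + 1 = 0 := by rw [one_add_one_eq_two]; exact h2
    ext i j; fin_cases i <;> fin_cases j <;> simp [e1, e6, Matrix.mul_apply, Fin.sum_univ_three, o2]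
  sym := by ext i j; fin_cases i <;> fin_cases j <;> rfl

theorem pr2 (h2 : (2 : F) = 0) : Pr (e2 : M3 F) e5 where
  hX := by ext i j; fin_cases i <;> fin_cases j <;> simp [e2, ct]
  hd := by simp [e2, Matrix.det_fin_three]; linear_combination (-1) * h2
  mul := by
    have o2 : (1 : F) + 1 = 0 := by rw [one_add_one_eq_two]; exact h2
    ext i j; fin_cases i <;> fin_cases j <;> simp [e2, e5, Matrix.mul_apply, Fin.sum_univ_three, o2]
  sym := by ext i j; fin_cases i <;> fin_cases j <;> rfl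

theorem pr3 (h2 : (2 : F) = 0) : Pr (e3 : M3 F) e4 where
  hX := by ext i j; fin_cases i <;> fin_cases j <;> simp [e3, ct]
  hd := by simp [e3, Matrix.det_fin_three]; linear_combination (-1) * h2
  mul := by
    have o2 : (1 : F) + 1 = 0 := by rw [one_add_one_eq_two]; exact h2
    ext i j; fin_cases i <;> fin_cases j <;> simp [e3, e4, Matrix.mul_apply, Fin.sum_univ_three, o2]
  sym := by ext i j; fin_cases i <;> fin_cases j <;> rfl

theorem pr4 (h2 : (2 : F) = 0) : Pr (e4 : M3 F) e3 where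
  hX := by ext i j; fin_cases i <;> fin_cases j <;> simp [e4, ct]
  hd := by simp [e4, Matrix.det_fin_three]; linear_combination (-1) * h2
  mul := by
    have o2 : (1 : F) + 1 = 0 := by rw [one_add_one_eq_two]; exact h2
    ext i j; fin_cases i <;> fin_cases j <;> simp [e3, e4, Matrix.mul_apply, Fin.sum_univ_three, o2]
  sym := by ext i j; fin_cases i <;> fin_cases j <;> rfl

theorem pr5 (h2 : (2 : F) = 0) : Pr (e5 : M3 F) e2 where
  hX := by ext i j; fin_cases i <;> fin_cases j <;> simp [e5, ct]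
  hd := by simp [e5, Matrix.det_fin_three]; linear_combination (-1) * h2
  mul := by
    have o2 : (1 : F) + 1 = 0 := by rw [one_add_one_eq_two]; exact h2
    ext i j; fin_cases i <;> fin_cases j <;> simp [e2, e5, Matrix.mul_apply, Fin.sum_univ_three, o2]
  sym := by ext i j; fin_cases i <;> fin_cases j <;> rfl

theorem HF_e1 : HF (e1 : M3 F) := by
  ext i j; fin_cases i <;> fin_cases j <;> simp [e1, ct]

theorem HF_e2 : HF (e2 : M3 F) := by
  ext i j; fin_cases i <;> fin_cases j <;> simp [e2, ct]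

theorem HF_one : HF (1 : M3 F) := ct_one

theorem ee3 (h2 : (2 : F) = 0) : (e3 : M3 F) = e1 + 1 := by
  have o2 : (1 : F) + 1 = 0 := by rw [one_add_one_eq_two]; exact h2
  ext i j; fin_cases i <;> fin_cases j <;> simp [e1, e3, o2]

theorem ee4 (h2 : (2 : F) = 0) : (e4 : M3 F) = e2 + e1 := by
  have o2 : (1 : F) + 1 = 0 := by rw [one_add_one_eq_two]; exact h2
  ext i j; fin_cases i <;> fin_cases j <;> simp [e1, e2, e4, o2]

theorem ee5 (h2 : (2 : F) = 0) : (e5 : M3 F) = e2 + e1 + 1 := by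
  have o2 : (1 : F) + 1 = 0 := by rw [one_add_one_eq_two]; exact h2
  ext i j; fin_cases i <;> fin_cases j <;> simp [e1, e2, e5, o2]

theorem ee6 (h2 : (2 : F) = 0) : (e6 : M3 F) = e2 + 1 := by
  have o2 : (1 : F) + 1 = 0 := by rw [one_add_one_eq_two]; exact h2
  ext i j; fin_cases i <;> fin_cases j <;> simp [e2, e6, o2]

theorem ct_transpose (X : M3 F) : ct X.transpose = (ct X).transpose := rfl

/-- the inverse transpose of a congruence -/
theorem hact_it_one (h2 : (2 : F) = 0) {g : G3 F} {X Y : M3 F} (h : hact g 1 = X) (hXY : X * Y = 1) :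
    hact (it g) 1 = Y.transpose := by
  have e0 : (g⁻¹ : G3 F).1 * g.1 = 1 := congrArg Subtype.val (inv_mul_cancel g)
  have e0' : g.1 * (g⁻¹ : G3 F).1 = 1 := congrArg Subtype.val (mul_inv_cancel g)
  have hX : g.1 * ct g.1 = X := by
    rw [← h]
    show g.1 * ct g.1 = g.1 * 1 * ct g.1
    rw [Matrix.mul_one]
  have hY : ct (g⁻¹ : G3 F).1 * (g⁻¹ : G3 F).1 * X = 1 := by
    rw [← hX, Matrix.mul_assoc, ← Matrix.mul_assoc _ g.1, e0, Matrix.one_mul, ← ct_mul h2, e0', ct_one]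
  have hYX : ct (g⁻¹ : G3 F).1 * (g⁻¹ : G3 F).1 = Y := by
    calc ct (g⁻¹ : G3 F).1 * (g⁻¹ : G3 F).1 = ct (g⁻¹ : G3 F).1 * (g⁻¹ : G3 F).1 * (X * Y) := by
          rw [hXY, Matrix.mul_one]
      _ = Y := by rw [← Matrix.mul_assoc, hY, Matrix.one_mul]
  show ((g⁻¹ : G3 F).1.transpose) * 1 * ct ((g⁻¹ : G3 F).1.transpose) = _
  rw [Matrix.mul_one, ct_transpose, ← Matrix.transpose_mul, hYX]

end Eight

section Mixed

variable {F : Type} [Field F] [Fintype F] {V : Type*} [AddCommGroup V] [Module (ZMod 2) V]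
  {ρ : Representation (ZMod 2) (G3 F) V}

/-- the pair of fixed vectors is moved to a pair of inverse matrices -/
theorem exists_pair (hF : Fintype.card F = 4) {s : Bool} {φ ψ : M3 F → V}
    (hφe : ∀ (g : G3 F) (X : M3 F), HF X → ρ g (φ X) = φ (hact (tw s g) X))
    (hψe : ∀ (g : G3 F) (X : M3 F), HF X → ρ g (ψ X) = ψ (hact (tw (!s) g) X)) {X Y : M3 F} (h : Pr X Y) :
    ∃ g : G3 F, ρ g (φ 1) = φ X ∧ ρ g (ψ 1) = ψ Y := by
  have h2 := two_of_card hF
  obtain ⟨g, hg⟩ := exists_hact_one hF h.hX h.hd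
  have hi := hact_it_one h2 hg h.mul
  rw [h.sym] at hi
  cases s
  · refine ⟨g, ?_, ?_⟩
    · rw [hφe g 1 HF_one]
      exact congrArg φ hg
    · rw [hψe g 1 HF_one]
      exact congrArg ψ hi
  · refine ⟨it g, ?_, ?_⟩
    · rw [hφe _ 1 HF_one]
      show φ (hact (it (it g)) 1) = _
      rw [it_it, hg]
    · rw [hψe _ 1 HF_one]
      exact congrArg ψ hi

/-- **the mixed case is impossible** -/
theorem dead_mixed (hF : Fintype.card F = 4) (β : V →ₗ[ZMod 2] V →ₗ[ZMod 2] V) (halt : ∀ x, β x x = 0)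
    (hinv : ∀ g x y, ρ g (β x y) = β (ρ g x) (ρ g y)) {sq : V → V} (hadd : ∀ x y, sq (x + y) = sq x + sq y + β x y)
    (hsi : ∀ g x, ρ g (sq x) = sq (ρ g x)) (hsb : ∀ x y, β (sq x) y = β x (β x y)) {s : Bool} {φ ψ : M3 F → V}
    (hφ : ∀ X Y, HF X → HF Y → φ (X + Y) = φ X + φ Y) (hψ : ∀ X Y, HF X → HF Y → ψ (X + Y) = ψ X + ψ Y)
    (hφe : ∀ (g : G3 F) (X : M3 F), HF X → ρ g (φ X) = φ (hact (tw s g) X))
    (hψe : ∀ (g : G3 F) (X : M3 F), HF X → ρ g (ψ X) = ψ (hact (tw (!s) g) X))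
    (hψ0 : ∀ X, HF X → ψ X = 0 → X = 0) (h1 : sq (φ 1) = φ 1 + ψ 1) : False := by
  have h2 := two_of_card hF
  have t : ∀ v : V, v + v = 0 := two_zero
  have swap : ∀ x y, β x y = β y x := by
    intro x y
    have h := halt (x + y)
    simp only [map_add, LinearMap.add_apply, halt, zero_add, add_zero] at h
    exact (add_right_cancel (h.trans (t (β x y)).symm)).symm
  -- the bracket of inverse elements
  have hb1 : β (φ 1) (ψ 1) = 0 := by
    have h := hsb (φ 1) (φ 1)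
    rw [h1, halt, map_zero, map_add, LinearMap.add_apply, halt, zero_add] at h
    rw [swap, h]
  have hpr : ∀ {X Y : M3 F}, Pr X Y → β (φ X) (ψ Y) = 0 ∧ sq (φ X) = φ X + ψ Y := by
    intro X Y h
    obtain ⟨g, e, e'⟩ := exists_pair hF hφe hψe h
    constructor
    · rw [← e, ← e', ← hinv, hb1, map_zero]
    · rw [← e, ← hsi, h1, map_add, e']
  -- the elements of the field with eight elements
  have H1 := HF_e1 (F := F)
  have H2 := HF_e2 (F := F)
  have H0 := HF_one (F := F)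
  have H21 := HF_add h2 H2 H1
  obtain ⟨_, s1⟩ := hpr (pr1 h2)
  obtain ⟨b2, _⟩ := hpr (pr2 h2)
  obtain ⟨b3, s3⟩ := hpr (pr3 h2)
  obtain ⟨b4, _⟩ := hpr (pr4 h2)
  obtain ⟨b5, _⟩ := hpr (pr5 h2)
  rw [ee6 h2, hψ _ _ H2 H0] at s1
  rw [ee5 h2, hψ _ _ H21 H0, hψ _ _ H2 H1] at b2
  rw [ee3 h2, ee4 h2, hφ _ _ H1 H0, hψ _ _ H2 H1] at b3 s3
  rw [ee3 h2, ee4 h2, hψ _ _ H1 H0, hφ _ _ H2 H1] at b4
  rw [ee5 h2, hφ _ _ H21 H0, hφ _ _ H2 H1] at b5
  simp only [map_add, LinearMap.add_apply] at b2 b3 b4 b5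
  -- the symmetry
  have key : β (φ 1) (ψ e1) = β (φ e1) (ψ 1) := by
    have e : β (φ 1) (ψ e1) + β (φ e1) (ψ 1) = 0 := by
      linear_combination (norm := module) b2 + b3 + b4 + b5 - t (β (φ e2) (ψ e2)) - t (β (φ e2) (ψ e1)) -
        t (β (φ e2) (ψ 1)) - t (β (φ e1) (ψ e2)) - t (β (φ e1) (ψ e1)) - t (β (φ 1) (ψ e2))
    have e' := t (β (φ e1) (ψ 1))
    exact add_right_cancel (e.trans e'.symm)
  -- the bracket of `φ 1` and `φ g`
  have hb : β (φ 1) (φ e1) = ψ e1 := by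
    have h := hadd (φ e1) (φ 1)
    rw [s3, s1, h1, swap] at h
    linear_combination (norm := module) - h - t (ψ 1)
  have hc := hsb (φ 1) (φ e1)
  rw [h1, map_add, LinearMap.add_apply, hb, key, swap (ψ 1)] at hc
  have h0 : ψ e1 = 0 := by
    have h := hc.trans (zero_add _).symm
    exact add_right_cancel h
  have h3 := congrFun (congrFun (hψ0 _ H1 h0) 0) 2
  exact one_ne_zero (α := F) h3

/-- **`[2]` has no orbit of length three on `{n, m, n + m}`** -/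
theorem dead_three (hF : Fintype.card F = 4) (β : V →ₗ[ZMod 2] V →ₗ[ZMod 2] V) (halt : ∀ x, β x x = 0)
    (hinv : ∀ g x y, ρ g (β x y) = β (ρ g x) (ρ g y)) {sq : V → V} (hadd : ∀ x y, sq (x + y) = sq x + sq y + β x y)
    (hsi : ∀ g x, ρ g (sq x) = sq (ρ g x)) (hsb : ∀ x y, β (sq x) y = β x (β x y)) {s : Bool} {φ ψ : M3 F → V}
    (hφ : ∀ X Y, HF X → HF Y → φ (X + Y) = φ X + φ Y) (hψ : ∀ X Y, HF X → HF Y → ψ (X + Y) = ψ X + ψ Y)
    (hφe : ∀ (g : G3 F) (X : M3 F), HF X → ρ g (φ X) = φ (hact (tw s g) X))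
    (hψe : ∀ (g : G3 F) (X : M3 F), HF X → ρ g (ψ X) = ψ (hact (tw (!s) g) X))
    (hφ0 : ∀ X, HF X → φ X = 0 → X = 0) (hψ0 : ∀ X, HF X → ψ X = 0 → X = 0)
    (h : sq (φ 1) = φ 1 + ψ 1 ∨ sq (ψ 1) = φ 1 + ψ 1) : False := by
  rcases h with h | h
  · exact dead_mixed hF β halt hinv hadd hsi hsb hφ hψ hφe hψe hψ0 h
  · refine dead_mixed hF β halt hinv hadd hsi hsb (s := !s) hψ hφ hψe (fun g X hX => ?_) hφ0 (h.trans (add_comm _ _))
    rw [hφe g X hX, Bool.not_not]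

/-- `[2]` fixes `n`: then it is the identity and the module is abelian -/
theorem toral_of_fix (hF : Fintype.card F = 4) (β : V →ₗ[ZMod 2] V →ₗ[ZMod 2] V)
    {sq : V → V} (hadd : ∀ x y, sq (x + y) = sq x + sq y + β x y)
    (hsi : ∀ g x, ρ g (sq x) = sq (ρ g x)) {s : Bool} {φ : M3 F → V}
    (hφ : ∀ X Y, HF X → HF Y → φ (X + Y) = φ X + φ Y)
    (hφe : ∀ (g : G3 F) (X : M3 F), HF X → ρ g (φ X) = φ (hact (tw s g) X))
    (h : sq (φ 1) = φ 1) : (∀ X, HF X → sq (φ X) = φ X) ∧ ∀ X Y, HF X → HF Y → β (φ X) (φ Y) = 0 := by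
  have h2 := two_of_card hF
  have hq : Quad (fun X => sq (φ X)) (fun X Y => β (φ X) (φ Y)) :=
    { add := fun X Y hX hY => by rw [hφ X Y hX hY, hadd]
      badd := fun X Y Z hX hY _ => by rw [hφ X Y hX hY, map_add, LinearMap.add_apply] }
  have hq' : Quad φ (fun _ _ => (0 : V)) :=
    { add := fun X Y hX hY => by rw [hφ X Y hX hY, add_zero]
      badd := fun _ _ _ _ _ _ => (add_zero _).symm }
  have h1 : ∀ X, HF X → sq (φ X) = φ X := fun X hX =>
    quad_ext (ρ := ρ) hF hq hq' s (fun g Y hY => by rw [hsi, hφe g Y hY]) hφe h X hX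
  refine ⟨h1, fun X Y hX hY => ?_⟩
  have e := hadd (φ X) (φ Y)
  rw [← hφ X Y hX hY, h1 _ (HF_add h2 hX hY), h1 X hX, h1 Y hY, hφ X Y hX hY] at e
  exact (left_eq_add.1 e)

/-- **the case `(B')`**: `φ`, `ψ` of the two types, `[2]` an even permutation of `{n, m, n + m}`, `φ` not abelian -/
theorem dead_B (hF : Fintype.card F = 4) (β : V →ₗ[ZMod 2] V →ₗ[ZMod 2] V) (halt : ∀ x, β x x = 0)
    (hinv : ∀ g x y, ρ g (β x y) = β (ρ g x) (ρ g y)) {sq : V → V} (hadd : ∀ x y, sq (x + y) = sq x + sq y + β x y)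
    (hsi : ∀ g x, ρ g (sq x) = sq (ρ g x)) (hsb : ∀ x y, β (sq x) y = β x (β x y)) {s : Bool} {φ ψ : M3 F → V}
    (hφ : ∀ X Y, HF X → HF Y → φ (X + Y) = φ X + φ Y) (hψ : ∀ X Y, HF X → HF Y → ψ (X + Y) = ψ X + ψ Y)
    (hφe : ∀ (g : G3 F) (X : M3 F), HF X → ρ g (φ X) = φ (hact (tw s g) X))
    (hψe : ∀ (g : G3 F) (X : M3 F), HF X → ρ g (ψ X) = ψ (hact (tw (!s) g) X))
    (hφ0 : ∀ X, HF X → φ X = 0 → X = 0) (hψ0 : ∀ X, HF X → ψ X = 0 → X = 0)
    (hn : sq (φ 1) = φ 1 ∨ sq (φ 1) = ψ 1 ∨ sq (φ 1) = φ 1 + ψ 1)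
    (hm : sq (ψ 1) = φ 1 ∨ sq (ψ 1) = ψ 1 ∨ sq (ψ 1) = φ 1 + ψ 1) (hnm : sq (φ 1) ≠ sq (ψ 1))
    (hev : ¬ (sq (φ 1) = ψ 1 ∧ sq (ψ 1) = φ 1)) (hne : ∃ X Y, HF X ∧ HF Y ∧ β (φ X) (φ Y) ≠ 0) : False := by
  rcases hn with h | h | h
  · obtain ⟨X, Y, hX, hY, h0⟩ := hne
    exact h0 ((toral_of_fix hF β hadd hsi hφ hφe h).2 X Y hX hY)
  · rcases hm with h' | h' | h'
    · exact hev ⟨h, h'⟩
    · exact hnm (h.trans h'.symm)
    · exact dead_three hF β halt hinv hadd hsi hsb hφ hψ hφe hψe hφ0 hψ0 (Or.inr h')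
  · exact dead_three hF β halt hinv hadd hsi hsb hφ hψ hφe hψe hφ0 hψ0 (Or.inl h)

end Mixed

end Cfsg.Agent.H906.L34
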